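import Groth.Agent.Lib.MultDef14.DiagChart
import Groth.Agent.Lib.DiagGrp.BaseChange
import Mathlib.AlgebraicGeometry.ResidueField

/-!
Charts of a group locally of finite type have finitely generated character groups.
-/

universe u

open CategoryTheory MonoidalCategory CartesianMonoidalCategory MonObj GrpObj AlgebraicGeometry
open CategoryTheory.Limits

set_option backward.isDefEq.respectTransparency false

namespace GrothLib.MultHopf14

open GrothLib.DiagGrp GrothLib.MultDef14

variable {S : Scheme.{u}}

theorem lft_of_overIso {W : Scheme.{u}} {Y Y' : Over W} (i : Y ≅ Y') (h : LocallyOfFiniteType Y'.hom) :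
    LocallyOfFiniteType Y.hom := by
  haveI : IsIso i.hom.left := inferInstanceAs (IsIso ((Over.forget W).mapIso i).hom)
  rw [← Over.w i.hom]
  exact (MorphismProperty.cancel_left_of_respectsIso @LocallyOfFiniteType _ _).mpr ‹_›

/-- The character group of a nonempty chart of a group locally of finite type is finitely generated. -/
theorem fg_of_chart {H : Over S} [GrpObj H] [LocallyOfFiniteType H.hom] {W : Scheme.{u}} (f : W ⟶ S) {M : Type}
    [AddCommGroup M] (e : Grp.mk (Red.bc f H) ≅ Grp.mk (Red.DS W M)) (x : W) : AddGroup.FG M := by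
  let k : Type u := W.residueField x
  let g : Spec (CommRingCat.of k) ⟶ W := W.fromSpecResidueField x
  haveI : LocallyOfFiniteType (Red.bc f H).hom := inferInstanceAs (LocallyOfFiniteType (pullback.snd H.hom f))
  haveI : LocallyOfFiniteType (Red.DS W M).hom := lft_of_overIso ((Grp.forget (Over W)).mapIso e.symm) (inferInstanceAs (LocallyOfFiniteType (Red.bc f H).hom))
  haveI : LocallyOfFiniteType (Red.bc g (Red.DS W M)).hom :=
    inferInstanceAs (LocallyOfFiniteType (pullback.snd (Red.DS W M).hom g))
  have hterm : g ≫ Limits.IsTerminal.from specULiftZIsTerminal W =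
      Limits.IsTerminal.from specULiftZIsTerminal (Spec (CommRingCat.of k)) := specULiftZIsTerminal.hom_ext _ _
  haveI : LocallyOfFiniteType (Red.DS (Spec (CommRingCat.of k)) M).hom :=
    lft_of_overIso ((Grp.forget (Over (Spec (CommRingCat.of k)))).mapIso
      (bcGrpComp (Red.diag (ULift.{u} ℤ) M) (Limits.IsTerminal.from specULiftZIsTerminal W) g
        (Limits.IsTerminal.from specULiftZIsTerminal (Spec (CommRingCat.of k))) hterm.symm))
      (inferInstanceAs (LocallyOfFiniteType (Red.bc g (Red.DS W M)).hom))
  haveI := isIso_diagToDS k M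
  haveI : LocallyOfFiniteType (Red.diag k M).hom := lft_of_overIso (asIso (diagToDS k M)) inferInstance
  have hft : Algebra.FiniteType k (MonoidAlgebra k (Multiplicative M)) := by
    have h : LocallyOfFiniteType
        (Spec.map (CommRingCat.ofHom (algebraMap k (MonoidAlgebra k (Multiplicative M))))) := ‹_›
    rw [HasRingHomProperty.Spec_iff (P := @LocallyOfFiniteType), CommRingCat.hom_ofHom,
      RingHom.finiteType_algebraMap] at h
    exact h
  haveI : Group.FG (Multiplicative M) := MonoidAlgebra.finiteType_iff_group_fg.mp hft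
  exact AddGroup.fg_iff_mul_fg.mpr inferInstance

/-- Charts of a group locally of finite type have finitely generated character groups. -/
theorem hasChartsFpqc_fg {Q : ∀ (M : Type), AddCommGroup M → Prop} {H : Over S} [GrpObj H]
    [LocallyOfFiniteType H.hom] (hH : HasChartsFpqc Q H) : HasChartsFpqc fgM H := by
  obtain ⟨S', π, h1, h2, h3, h4⟩ := hH
  exact ⟨S', π, h1, h2, h3, fun s' => by
    obtain ⟨U, hU, M, inst, -, ⟨e⟩⟩ := h4 s'
    exact ⟨U, hU, M, inst, fg_of_chart _ e ⟨s', hU⟩, ⟨e⟩⟩⟩

end GrothLib.MultHopf14
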