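import Groth.Agent.Lib.MultHopf14.FromScheme
import Groth.Agent.Lib.MultDef14.Cover
import Groth.Agent.Lib.MultDef14.Affine
import Groth.Agent.Lib.DiagGrp.MultTypeFT
import Groth.Agent.Lib.MultLocal.Main

/-!
Frames of groups of multiplicative type over an affine base.
-/

universe u

open CategoryTheory MonoidalCategory CartesianMonoidalCategory MonObj GrpObj AlgebraicGeometry
open scoped TensorProduct

set_option backward.isDefEq.respectTransparency false

namespace GrothLib.MultHopf14

open GrothLib.MultDef14 GrothLib.MultLocal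

variable {R : Type u} [CommRing R]

/-- An affine group scheme over an affine base is the group of a Hopf algebra. -/
theorem exists_hopf (H : Over (Spec (CommRingCat.of R))) [GrpObj H] (hH : IsAffineHom H.hom) :
    ∃ (A : Type u) (_ : CommRing A) (_ : HopfAlgebra R A), Nonempty (Grp.mk (specGrp (R := R) A) ≅ Grp.mk H) := by
  haveI : IsAffine H.left := isAffine_of_isAffineHom H.hom
  obtain ⟨A', ⟨e⟩⟩ := (essImage_hopfSpec (R := CommRingCat.of R) (G := Grp.mk H)).2 inferInstance
  obtain ⟨A, rfl⟩ : ∃ A, Opposite.op A = A' := ⟨A'.unop, rfl⟩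
  exact ⟨(A : Type u), inferInstance, inferInstance, ⟨e⟩⟩

variable {A : Type u} [CommRing A] [HopfAlgebra R A]

/-- Frames over a flat covering family give multiplicative type, in finite presentation. -/
theorem isMultType_of_frames [Algebra.FinitePresentation R A] {σ : Type u} (T : σ → Type u) [∀ i, CommRing (T i)]
    [∀ i, Algebra R (T i)] (hT : IsCoverFam R T) {M : σ → Type u} [∀ i, CommGroup (M i)]
    (g : ∀ i, M i →* GroupLike (T i) (T i ⊗[R] A)) (hg : ∀ i, IsFrame (g i)) : SGA3b.IsMultType R A := by
  refine isMultType_of_atPrime fun p _ => ?_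
  obtain ⟨i, Qp, hQp⟩ := hT.surj ⟨p, inferInstance⟩
  haveI := hT.flat i
  let T' := Localization.AtPrime Qp.asIdeal
  haveI : Qp.asIdeal.LiesOver p := ⟨(congrArg PrimeSpectrum.asIdeal hQp).symm⟩
  letI : Algebra (Localization.AtPrime p) T' := (Localization.localRingHom p Qp.asIdeal (algebraMap R (T i))
    (congrArg PrimeSpectrum.asIdeal hQp).symm).toAlgebra
  haveI : IsScalarTower R (Localization.AtPrime p) T' := IsScalarTower.of_algebraMap_eq fun x => by
    rw [RingHom.algebraMap_toAlgebra, Localization.localRingHom_to_map, ← IsScalarTower.algebraMap_apply]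
  haveI : Module.Flat R T' := Module.Flat.trans R (T i) T'
  haveI : Module.Flat (Localization.AtPrime p) T' :=
    (Module.flat_iff_of_isLocalization (Localization.AtPrime p) p.primeCompl T').mpr inferInstance
  haveI : IsLocalHom (algebraMap (Localization.AtPrime p) T') := by
    rw [RingHom.algebraMap_toAlgebra]
    exact Localization.isLocalHom_localRingHom _ _ _ _
  haveI : Module.FaithfullyFlat (Localization.AtPrime p) T' := Module.FaithfullyFlat.of_flat_of_isLocalHom
  exact isMultType_of_frame (((hg i).map (IsScalarTower.toAlgHom R (T i) T')).push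
    (GrothLib.Hopf.cancelBaseChange R (Localization.AtPrime p) T' A).symm)

/-- The group of a Hopf algebra with charts is of multiplicative type. -/
theorem isMultType_of_charts [Algebra.FinitePresentation R A] {Q : ∀ (M : Type), AddCommGroup M → Prop}
    (hA : DiagGrp.HasChartsFpqc Q (specGrp (R := R) A)) : SGA3b.IsMultType R A := by
  obtain ⟨σ, T, _, _, hT, hch⟩ := exists_splitting (q := 𝟙 (Spec (CommRingCat.of R))) hA hA
  choose M instM hQ he using fun i => (hch i).1
  choose g hg using fun i => exists_frame_of_chart (he i).some (isUniv_specPt A) (isComul_specPt A)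
  exact isMultType_of_frames T hT g hg

/-- Groups of multiplicative type and of finite type split over a finite etale covering family. -/
theorem exists_etale_frames [Algebra.FiniteType R A] (h : SGA3b.IsMultType R A) :
    ∃ (σ : Type u) (E : σ → Type u) (_ : ∀ i, CommRing (E i)) (_ : ∀ i, Algebra R (E i)),
      IsCoverFam R E ∧ (∀ i, Algebra.Etale R (E i)) ∧ ∃ (M : σ → Type u) (_ : ∀ i, CommGroup (M i)),
        (∀ i, Group.FG (M i)) ∧ ∃ g : ∀ i, M i →* GroupLike (E i) (E i ⊗[R] A), ∀ i, IsFrame (g i) := by
  classical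
  choose E iE iA q M iM hE hq hqp hfg g hg using fun p : PrimeSpectrum R =>
    exists_etale_frame_of_isMultType h p.asIdeal
  letI := iE
  letI := iA
  letI := iM
  let U : PrimeSpectrum R → Set (PrimeSpectrum R) := fun p => Set.range (PrimeSpectrum.comap (algebraMap R (E p)))
  have hopen : ∀ p, IsOpen (U p) := fun p => by
    haveI := hE p
    exact PrimeSpectrum.isOpenMap_comap_of_hasGoingDown_of_finitePresentation.isOpen_range
  obtain ⟨t, ht⟩ := isCompact_univ.elim_finite_subcover U hopen fun p _ =>
    Set.mem_iUnion.2 ⟨p, ⟨q p, hq p⟩, PrimeSpectrum.ext (hqp p)⟩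
  let σ : Type u := {p : PrimeSpectrum R // p ∈ t}
  refine ⟨σ, fun i => E i.1, inferInstance, inferInstance, ⟨Finite.of_fintype _, fun i => ?_, fun x => ?_⟩,
    fun i => hE i.1, fun i => M i.1, inferInstance, fun i => hfg i.1, fun i => g i.1, fun i => hg i.1⟩
  · haveI := hE i.1
    infer_instance
  · obtain ⟨p, hp, hx⟩ := Set.mem_iUnion₂.1 (ht (Set.mem_univ x))
    exact ⟨⟨p, hp⟩, hx⟩

theorem IsCoverFam.faithfullyFlat {σ : Type u} {T : σ → Type u} [∀ i, CommRing (T i)] [∀ i, Algebra R (T i)]
    (hT : IsCoverFam R T) : Module.FaithfullyFlat R (∀ i, T i) := by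
  classical
  haveI := hT.finite
  haveI := Fintype.ofFinite σ
  haveI := hT.flat
  haveI : Module.Flat R (∀ i, T i) := Module.Flat.of_linearEquiv (DFinsupp.linearEquivFunOnFintype (R := R)).symm
  refine Module.FaithfullyFlat.of_comap_surjective fun x => ?_
  obtain ⟨i, y, hy⟩ := hT.surj x
  refine ⟨PrimeSpectrum.comap (Pi.evalRingHom T i) y, ?_⟩
  rw [← hy, ← PrimeSpectrum.comap_comp_apply]
  exact congrArg (fun φ => PrimeSpectrum.comap φ y) (RingHom.ext fun _ => rfl)

end GrothLib.MultHopf14
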