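import Groth.Agent.Lib.MultHopf14.Frames
import Groth.Agent.Lib.MultDef14.DiagChart

/-!
The group of a Hopf algebra with frames has diagonalisable charts.
-/

universe u

open CategoryTheory MonoidalCategory CartesianMonoidalCategory MonObj GrpObj AlgebraicGeometry
open scoped TensorProduct

set_option backward.isDefEq.respectTransparency false

namespace GrothLib.MultHopf14

open GrothLib.MultDef14 GrothLib.MultLocal Opposite

/-- Isomorphic bialgebras have isomorphic groups. -/
theorem grpIso_of_bialgEquiv {R : Type u} [CommRing R] {A B : Type u} [CommRing A] [HopfAlgebra R A] [CommRing B]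
    [HopfAlgebra R B] (φ : A ≃ₐc[R] B) : Nonempty (Grp.mk (specGrp (R := R) B) ≅ Grp.mk (specGrp (R := R) A)) := by
  let e : (bialgSpec (CommRingCat.of R)).obj (op (CommBialgCat.of R B)) ≅
      (bialgSpec (CommRingCat.of R)).obj (op (CommBialgCat.of R A)) :=
    (bialgSpec (CommRingCat.of R)).mapIso (CommBialgCat.isoMk φ).op
  let i : specGrp (R := R) B ≅ specGrp (R := R) A := (Mon.forget _).mapIso e
  haveI : IsMonHom i.hom := e.hom.isMonHom_hom
  exact ⟨Grp.mkIso i (IsMonHom.one_hom _) (IsMonHom.mul_hom _)⟩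

/-- The group of a Hopf algebra commutes with base change. -/
theorem bcGrp_specGrp {R : Type u} [CommRing R] (T : Type u) [CommRing T] [Algebra R T] (A : Type u) [CommRing A]
    [HopfAlgebra R A] :
    Nonempty (Grp.mk (Red.bc (Spec.map (CommRingCat.ofHom (algebraMap R T))) (specGrp (R := R) A)) ≅
      Grp.mk (specGrp (R := T) (T ⊗[R] A))) := by
  let φ := (Limits.pullbackSymmetry _ _ ≪≫ pullbackSpecIso' R T A).hom
  haveI : φ.IsOver (Spec (CommRingCat.of T)) := inferInstance
  let ψ : Red.bc (Spec.map (CommRingCat.ofHom (algebraMap R T))) (specGrp (R := R) A) ⟶ specGrp (R := T) (T ⊗[R] A) :=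
    φ.asOver (Spec (CommRingCat.of T))
  haveI : IsMonHom ψ := inferInstanceAs (IsMonHom (φ.asOver (Spec (CommRingCat.of T))))
  haveI : IsIso ((Over.forget _).map ψ) := inferInstanceAs (IsIso φ)
  haveI : IsIso ψ := isIso_of_reflects_iso ψ (Over.forget _)
  exact ⟨Grp.mkIso (asIso ψ) (IsMonHom.one_hom _) (IsMonHom.mul_hom _)⟩

/-- A finitely generated commutative group is a quotient of a power of `ℤ` in the lowest universe. -/
theorem exists_small (M : Type u) [CommGroup M] (hM : Group.FG M) :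
    ∃ (N : Type) (_ : AddCommGroup N), AddGroup.FG N ∧ Nonempty (M ≃* ULift.{u} (Multiplicative N)) := by
  haveI : AddGroup.FG (Additive M) := inferInstance
  obtain ⟨n, f, hf⟩ := Module.Finite.exists_fin' ℤ (Additive M)
  haveI : Module.Finite ℤ ((Fin n → ℤ) ⧸ LinearMap.ker f) := inferInstance
  exact ⟨(Fin n → ℤ) ⧸ LinearMap.ker f, inferInstance, Module.Finite.iff_addGroup_fg.mp inferInstance,
    ⟨((AddEquiv.toMultiplicative
      (LinearMap.quotKerEquivOfSurjective f hf).toAddEquiv.symm).trans MulEquiv.ulift.symm)⟩⟩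

variable {R : Type u} [CommRing R] {A : Type u} [CommRing A] [HopfAlgebra R A]

/-- A frame gives a chart. -/
theorem hasChart_of_frame {T : Type u} [CommRing T] [Algebra R T] {M : Type u} [CommGroup M] (hM : Group.FG M)
    {g : M →* GroupLike T (T ⊗[R] A)} (hg : IsFrame g) :
    DiagGrp.HasChart DiagGrp.fgM (specGrp (R := R) A) (Spec.map (CommRingCat.ofHom (algebraMap R T))) := by
  obtain ⟨N, _, hN, ⟨eN⟩⟩ := exists_small M hM
  let φ : MonoidAlgebra T (Multiplicative N) ≃ₐc[T] T ⊗[R] A :=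
    (MonoidAlgebra.domCongrBialgEquiv T T (MulEquiv.ulift.symm.trans eN.symm)).trans hg.equiv
  obtain ⟨e₁⟩ := bcGrp_specGrp (R := R) T A
  obtain ⟨e₂⟩ := grpIso_of_bialgEquiv φ
  haveI := isMonHom_diagToDS T N
  haveI := isIso_diagToDS T N
  let e₃ : Grp.mk (Red.diag T N) ≅ Grp.mk (Red.DS (Spec (CommRingCat.of T)) N) :=
    Grp.mkIso (asIso (diagToDS T N)) (IsMonHom.one_hom _) (IsMonHom.mul_hom _)
  exact ⟨N, inferInstance, hN, ⟨e₁ ≪≫ e₂ ≪≫ e₃⟩⟩

/-- Frames over a flat covering family give charts. -/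
theorem hasChartsFpqc_of_frames {σ : Type u} (T : σ → Type u) [∀ i, CommRing (T i)] [∀ i, Algebra R (T i)]
    (hT : IsCoverFam R T) {M : σ → Type u} [∀ i, CommGroup (M i)] (hM : ∀ i, Group.FG (M i))
    {g : ∀ i, M i →* GroupLike (T i) (T i ⊗[R] A)} (hg : ∀ i, IsFrame (g i)) :
    DiagGrp.HasChartsFpqc DiagGrp.fgM (specGrp (R := R) A) := by
  haveI := hT.finite
  let f : ∀ i, Spec (CommRingCat.of (T i)) ⟶ Spec (CommRingCat.of R) := fun i =>
    Spec.map (CommRingCat.ofHom (algebraMap R (T i)))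
  let W := ∐ fun i => Spec (CommRingCat.of (T i))
  let p : W ⟶ Spec (CommRingCat.of R) := Limits.Sigma.desc f
  haveI : ∀ i, Flat (f i) := fun i => by
    rw [HasRingHomProperty.Spec_iff (P := @Flat)]
    exact RingHom.flat_algebraMap_iff.mpr (hT.flat i)
  haveI : Flat p := IsZariskiLocalAtSource.of_openCover (P := @Flat) (sigmaOpenCover _) fun i => by
    change Flat (Limits.Sigma.ι (fun i => Spec (CommRingCat.of (T i))) (i : σ) ≫ p)
    rw [Limits.Sigma.ι_desc]
    infer_instance
  have hsurj : Surjective p := ⟨fun x => by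
    obtain ⟨i, y, hy⟩ := hT.surj x
    refine ⟨Limits.Sigma.ι (fun i => Spec (CommRingCat.of (T i))) i y, ?_⟩
    rw [← Scheme.Hom.comp_apply, Limits.Sigma.ι_desc]
    exact hy⟩
  haveI : IsAffine W := inferInstance
  refine ⟨W, p, inferInstance, hsurj, fun V hV => ⟨p ⁻¹ᵁ V, (hV.preimage p).isCompact, ?_⟩, fun w => ?_⟩
  · exact Set.image_preimage_eq _ hsurj.surj
  · obtain ⟨i, x, rfl⟩ := (sigmaOpenCover fun i => Spec (CommRingCat.of (T i))).exists_eq w
    let ι₀ := Limits.Sigma.ι (fun i => Spec (CommRingCat.of (T i))) i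
    refine ⟨ι₀.opensRange, ⟨x, rfl⟩, (hasChart_of_frame (hM i) (hg i)).precomp ι₀.isoOpensRange.inv _ ?_⟩
    rw [show Spec.map (CommRingCat.ofHom (algebraMap R (T i))) = ι₀ ≫ p from (Limits.Sigma.ι_desc (f := fun i => Spec (CommRingCat.of (T i))) (fun i => Spec.map (CommRingCat.ofHom (algebraMap R (T i)))) i).symm,
      Scheme.Hom.isoOpensRange_inv_comp_assoc]

end GrothLib.MultHopf14
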