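import Groth.Agent.Lib.MultDef14.HomLift
import Groth.Agent.Lib.MultLocal.Quot
import Groth.Agent.Lib.MultLocal.SpreadFP
import Mathlib.AlgebraicGeometry.Group.Affine

/-!
Groups of multiplicative type over an affine base, seen as Hopf algebras.
-/

universe u

open CategoryTheory MonoidalCategory CartesianMonoidalCategory MonObj GrpObj AlgebraicGeometry
open scoped TensorProduct

set_option backward.isDefEq.respectTransparency false

namespace GrothLib.MultHopf14

open GrothLib.MultDef14

section Spec

variable {R : Type u} [CommRing R] (A : Type u) [CommRing A] [HopfAlgebra R A]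

/-- The group scheme of a Hopf algebra. -/
noncomputable abbrev specGrp : Over (Spec (CommRingCat.of R)) :=
  (Spec (CommRingCat.of A)).asOver (Spec (CommRingCat.of R))

/-- An affine point seen in the category of schemes over the base. -/
noncomputable def affTo (B : Type u) [CommRing B] [Algebra R B] :
    aff (𝟙 (Spec (CommRingCat.of R))) B ⟶ (Spec (CommRingCat.of B)).asOver (Spec (CommRingCat.of R)) :=
  Over.homMk (𝟙 _) ((Category.id_comp _).trans (Category.comp_id _).symm)

/-- The universal point of the group of a Hopf algebra. -/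
noncomputable def specPt : aff (𝟙 (Spec (CommRingCat.of R))) A ⟶ specGrp (R := R) A := affTo A

theorem affMap_specPt {B : Type u} [CommRing B] [Algebra R B] (f : A →ₐ[R] B) :
    affMap (𝟙 _) f ≫ specPt A = affTo B ≫ Spec.mapMulEquiv (WithConv.toConv f) :=
  Over.OverMorphism.ext ((Category.comp_id _).trans (Category.id_comp _).symm)

theorem isUniv_specPt : IsUniv (𝟙 _) (specPt (R := R) A) := by
  constructor
  · intro B _ _
    let e : aff (𝟙 (Spec (CommRingCat.of R))) B ≅ (Spec (CommRingCat.of B)).asOver (Spec (CommRingCat.of R)) :=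
      Over.isoMk (Iso.refl _) ((Category.id_comp _).trans (Category.comp_id _).symm)
    refine ⟨fun f g h => ?_, fun y => ⟨(Spec.mapMulEquiv.symm (e.inv ≫ y)).ofConv, ?_⟩⟩
    · dsimp only at h
      rw [affMap_specPt, affMap_specPt] at h
      exact WithConv.toConv_injective ((Spec.mapMulEquiv).injective ((cancel_epi e.hom).mp h))
    · dsimp only
      rw [affMap_specPt]
      simp only [WithConv.toConv_ofConv, MulEquiv.apply_symm_apply]
      exact e.hom_inv_id_assoc y
  · intro Y p y
    refine ⟨Over.homMk y.left ((congrArg (y.left ≫ ·) (Category.comp_id _)).trans (Over.w y)), ?_,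
      Over.OverMorphism.ext (Category.comp_id _)⟩
    apply Over.OverMorphism.ext
    have h1 := Over.w p
    change p.left ≫ Spec.map (CommRingCat.ofHom (algebraMap R R)) ≫ 𝟙 _ = Y.hom at h1
    rw [Category.comp_id, Algebra.algebraMap_self, CommRingCat.ofHom_id,
      show Spec.map (𝟙 (CommRingCat.of R)) = 𝟙 _ from Spec.map_id _] at h1
    exact (Over.w y).trans (h1.symm.trans (Category.comp_id _))

theorem isComul_specPt : IsComul (specPt (R := R) A) (Bialgebra.comulAlgHom R A) := by
  unfold IsComul
  rw [affMap_specPt, affMap_specPt, affMap_specPt, ← MonObj.comp_mul, ← map_mul]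
  congr 2
  refine WithConv.ofConv_injective (AlgHom.ext fun a => ?_)
  rw [AlgHom.convMul_apply]
  simp only [WithConv.ofConv_toConv]
  change Coalgebra.comul (R := R) a = _
  induction Coalgebra.comul (R := R) a using TensorProduct.induction_on with
  | zero => simp
  | add x y hx hy => simp only [map_add, ← hx, ← hy]
  | tmul x y => simp

end Spec

section Chart

variable {R : Type u} [CommRing R] {q : Spec (CommRingCat.of R) ⟶ Spec (CommRingCat.of R)}
  {H : Over (Spec (CommRingCat.of R))} [GrpObj H] {A : Type u} [CommRing A] [HopfAlgebra R A]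
  {h : aff q A ⟶ H} {T : Type u} [CommRing T] [Algebra R T] {M : Type} [AddCommGroup M]
  (e : Grp.mk (Red.bc (Spec.map (CommRingCat.ofHom (algebraMap R T)) ≫ q) H) ≅
    Grp.mk (Red.DS (Spec (CommRingCat.of T)) M))

include e in
/-- A chart gives a frame. -/
theorem exists_frame_of_chart (hu : IsUniv q h) (hΔ : IsComul h (Bialgebra.comulAlgHom R A)) :
    ∃ g : ULift.{u} (Multiplicative M) →* GroupLike T (T ⊗[R] A), MultLocal.IsFrame g := by
  obtain ⟨χ, hχ⟩ := (chPt_bijective q e (T ⊗[R] A)).2
    (affMap q (Algebra.TensorProduct.includeRight : A →ₐ[R] T ⊗[R] A) ≫ h)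
  let B := T ⊗[R] A
  let L : B →ₐ[T] B ⊗[T] B := Algebra.TensorProduct.includeLeft
  let Rt : B →ₐ[T] B ⊗[T] B := Algebra.TensorProduct.includeRight
  let D : B →ₐ[T] B ⊗[T] B := Bialgebra.comulAlgHom T B
  let iR : A →ₐ[R] B := Algebra.TensorProduct.includeRight
  have hD : (D.restrictScalars R).comp iR = (Algebra.TensorProduct.lift ((L.restrictScalars R).comp iR)
      ((Rt.restrictScalars R).comp iR) fun _ _ => Commute.all _ _).comp (Bialgebra.comulAlgHom R A) :=
    AlgHom.ext fun a => by
      have := (Coalgebra.Repr.arbitrary R a).eq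
      change Coalgebra.comul (R := T) ((1 : T) ⊗ₜ[R] a) = _
      simp only [AlgHom.comp_apply, Bialgebra.comulAlgHom_apply]
      rw [← this]
      simp [L, Rt, iR, TensorProduct.comul_tmul, ← this, TensorProduct.tmul_sum]
      rfl
  have hmul : (D : B →* B ⊗[T] B).comp χ = (L : B →* B ⊗[T] B).comp χ * (Rt : B →* B ⊗[T] B).comp χ := by
    refine (chPt_bijective q e _).1 ?_
    rw [chPt_mul, ← chPt_comp, ← chPt_comp, ← chPt_comp, hχ, affMap_comp_assoc, affMap_comp_assoc,
      affMap_comp_assoc, hD, ← affMap_comp_assoc, hΔ, MonObj.comp_mul, affMap_comp_assoc, affMap_comp_assoc]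
    congr 2 <;> congr 1 <;> exact AlgHom.ext fun _ => by simp [iR]
  have hcomul : ∀ m, Coalgebra.comul (R := T) (χ m) = χ m ⊗ₜ[T] χ m := fun m => by
    refine (DFunLike.congr_fun hmul m).trans ?_
    simp [L, Rt]
    rfl
  have hcounit : ∀ m, Coalgebra.counit (R := T) (χ m) = 1 := fun m => by
    have hu' : IsUnit (Bialgebra.counitAlgHom T B (χ m)) := (χ.toHomUnits m).isUnit.map _
    have h2 := congrArg (fun z => Bialgebra.counitAlgHom T B (TensorProduct.lid T B z))
      (Coalgebra.rTensor_counit_comul (R := T) (χ m))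
    rw [hcomul] at h2
    simp at h2
    exact hu'.mul_left_cancel (h2.trans (_root_.mul_one _).symm)
  let g : ULift.{u} (Multiplicative M) →* GroupLike T B :=
    { toFun := fun m => ⟨χ m.down, ⟨hcounit _, hcomul _⟩⟩
      map_one' := GroupLike.ext (map_one χ)
      map_mul' := fun a b => GroupLike.ext (map_mul χ _ _) }
  obtain ⟨φ, hφ⟩ := (hu.bij (MonoidAlgebra T (ULift.{u} (Multiplicative M)))).2
    (chPt q e _ ((MonoidAlgebra.of T (ULift.{u} (Multiplicative M))).comp MulEquiv.ulift.symm.toMonoidHom))
  dsimp only at hφ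
  let Λ : MonoidAlgebra T (ULift.{u} (Multiplicative M)) →ₐ[T] B := (MultLocal.glHom g : _ →ₐ[T] B)
  let ψ : B →ₐ[T] MonoidAlgebra T (ULift.{u} (Multiplicative M)) :=
    Algebra.TensorProduct.lift (Algebra.ofId T _) φ fun _ _ => Commute.all _ _
  have hψi : (ψ.restrictScalars R).comp iR = φ := AlgHom.ext fun a => by
    change algebraMap T (MonoidAlgebra T (ULift.{u} (Multiplicative M))) 1 * φ a = φ a
    rw [map_one, _root_.one_mul]
  have hΛo : ((Λ : MonoidAlgebra T (ULift.{u} (Multiplicative M)) →* B)).comp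
      ((MonoidAlgebra.of T (ULift.{u} (Multiplicative M))).comp MulEquiv.ulift.symm.toMonoidHom) = χ :=
    MonoidHom.ext fun m => by
    change MultLocal.glHom g (MonoidAlgebra.single (ULift.up m) 1) = χ m
    rw [MultLocal.glHom_single, one_smul]
    rfl
  have h1 : (Λ.restrictScalars R).comp φ = iR := by
    refine (hu.bij _).1 ?_
    dsimp only
    rw [← affMap_comp_assoc, hφ, chPt_comp, hΛo, hχ]
  have h2 : (ψ : B →* MonoidAlgebra T (ULift.{u} (Multiplicative M))).comp χ =
      (MonoidAlgebra.of T (ULift.{u} (Multiplicative M))).comp MulEquiv.ulift.symm.toMonoidHom := by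
    refine (chPt_bijective q e _).1 ?_
    rw [← chPt_comp, hχ, affMap_comp_assoc, hψi, hφ]
  refine ⟨g, Function.bijective_iff_has_inverse.mpr ⟨ψ, fun x => ?_, fun y => ?_⟩⟩
  · refine DFunLike.congr_fun (?_ : ψ.comp Λ = AlgHom.id T _) x
    refine MonoidAlgebra.algHom_ext' (MonoidHom.ext fun m => ?_) (AlgHom.ext fun r => ?_)
    swap
    · exact ((ψ.comp Λ).comp MonoidAlgebra.singleOneAlgHom).commutes r
    obtain ⟨m⟩ := m
    change ψ (MultLocal.glHom g (MonoidAlgebra.single _ 1)) = _
    rw [MultLocal.glHom_single, one_smul]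
    exact DFunLike.congr_fun h2 m
  · refine DFunLike.congr_fun (?_ : Λ.comp ψ = AlgHom.id T B) y
    refine Algebra.TensorProduct.ext (by ext) (AlgHom.ext fun a => ?_)
    change Λ (ψ ((1 : T) ⊗ₜ[R] a)) = (1 : T) ⊗ₜ[R] a
    refine (congrArg Λ (DFunLike.congr_fun hψi a)).trans ?_
    exact DFunLike.congr_fun h1 a

end Chart

end GrothLib.MultHopf14
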