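import Groth.Agent.Lib.MultHopf14.ToScheme
import Groth.Agent.Lib.MultHopf14.FgCharts
import Groth.Agent.Lib.Hensel.FiniteEtaleLift
import Groth.Agent.Lib.MultLocal.EffectiveNil
import Groth.Agent.Lib.DiagGrp.FlatMultType
import Groth.Agent.Lib.AlgSp.DeformScheme
import Mathlib.AlgebraicGeometry.Morphisms.Finite

/-!
Groups of multiplicative type lift along thickenings of an affine base.
-/

universe u

open CategoryTheory MonoidalCategory CartesianMonoidalCategory MonObj GrpObj AlgebraicGeometry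
open scoped TensorProduct

set_option backward.isDefEq.respectTransparency false

namespace GrothLib.MultHopf14

open GrothLib.DiagGrp (fgM HasChartsFpqc)

theorem surjective_specQuot {R : Type u} [CommRing R] {J : Ideal R} (hJ : ∀ x ∈ J, IsNilpotent x) :
    Surjective (Spec.map (CommRingCat.ofHom (Ideal.Quotient.mk J))) := ⟨fun x => by
  have hJx : J ≤ x.asIdeal := fun a ha => by
    obtain ⟨n, hn⟩ := hJ a ha
    exact x.2.mem_of_pow_mem n (hn ▸ zero_mem _)
  have : x ∈ Set.range (PrimeSpectrum.comap (Ideal.Quotient.mk J)) := by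
    rw [range_comap_of_surjective _ _ Ideal.Quotient.mk_surjective, Ideal.mk_ker]
    exact hJx
  exact this⟩

/-- A group of multiplicative type and of finite type over a closed subscheme defined by a nil ideal of an affine
scheme lifts. -/
theorem exists_lift_grp {R : Type u} [CommRing R] (J : Ideal R) (hJ : ∀ x ∈ J, IsNilpotent x)
    (H₀ : Over (Spec (CommRingCat.of (R ⧸ J)))) [GrpObj H₀] (hch : HasChartsFpqc fgM H₀) :
    ∃ (H : Over (Spec (CommRingCat.of R))) (_ : GrpObj H), HasChartsFpqc fgM H ∧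
      Nonempty (Grp.mk (Red.bc (Spec.map (CommRingCat.ofHom (Ideal.Quotient.mk J))) H) ≅ Grp.mk H₀) := by
  classical
  let q : Spec (CommRingCat.of (R ⧸ J)) ⟶ Spec (CommRingCat.of R) :=
    Spec.map (CommRingCat.ofHom (Ideal.Quotient.mk J))
  obtain ⟨A₀, _, _, ⟨e₀⟩⟩ := exists_hopf H₀ (GrothLib.EssFree.isAffineHom_of_charts hch)
  have hchA : GrothLib.DiagGrp.HasChartsFpqc GrothLib.DiagGrp.fgM (specGrp (R := R ⧸ J) A₀) := by
    obtain ⟨S', π, h1, h2, h3, h4⟩ := hch
    refine ⟨S', π, h1, h2, h3, fun s' => ?_⟩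
    obtain ⟨U, hU, M, inst, hM, ⟨e⟩⟩ := h4 s'
    exact ⟨U, hU, M, inst, hM, ⟨(Over.pullback _).mapGrp.mapIso e₀ ≪≫ e⟩⟩
  haveI : Algebra.FinitePresentation (R ⧸ J) A₀ := by
    have h : LocallyOfFinitePresentation
        (Spec.map (CommRingCat.ofHom (algebraMap (R ⧸ J) A₀))) := GrothLib.DiagGrp.lfp_of_isMultTypeFT hchA
    rw [HasRingHomProperty.Spec_iff (P := @LocallyOfFinitePresentation), CommRingCat.hom_ofHom,
      RingHom.finitePresentation_algebraMap] at h
    exact h
  obtain ⟨σ, E, _, _, hE, hEet, M, _, hMfg, g, hg⟩ :=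
    exists_etale_frames (isMultType_of_charts hchA)
  -- the cover lifts
  letI : ∀ i, Algebra R (E i) := fun i => Algebra.compHom (E i) (Ideal.Quotient.mk J)
  haveI : ∀ i, IsScalarTower R (R ⧸ J) (E i) := fun i => IsScalarTower.of_algebraMap_eq fun _ => rfl
  choose T iT aT π hTet hπ hker using fun i =>
    haveI := hEet i
    GrothLib.Hensel.exists_etale_lift J (E i)
  letI := iT
  letI := aT
  haveI := hTet
  have hnil : ∀ a ∈ RingHom.ker (algebraMap R (R ⧸ J)), IsNilpotent a := fun a ha => by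
    rw [Ideal.Quotient.algebraMap_eq, Ideal.mk_ker] at ha
    exact hJ a ha
  have hπnil : ∀ i, ∀ a ∈ RingHom.ker (π i : T i →+* E i), IsNilpotent a := fun i a ha => by
    have hle : J.map (algebraMap R (T i)) ≤ nilradical (T i) :=
      Ideal.map_le_iff_le_comap.mpr fun x hx => (hJ x hx).map _
    exact hle (hker i ▸ ha)
  have hT : GrothLib.MultDef14.IsCoverFam R T := by
    refine ⟨hE.finite, fun i => inferInstance, fun x => ?_⟩
    have hJx : J ≤ x.asIdeal := fun a ha => by
      obtain ⟨n, hn⟩ := hnil a (by rw [Ideal.Quotient.algebraMap_eq, Ideal.mk_ker]; exact ha)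
      exact x.2.mem_of_pow_mem n (hn ▸ zero_mem _)
    obtain ⟨y, hy⟩ : x ∈ Set.range (PrimeSpectrum.comap (Ideal.Quotient.mk J)) := by
      rw [range_comap_of_surjective _ _ Ideal.Quotient.mk_surjective, Ideal.mk_ker]
      exact hJx
    obtain ⟨i, z, hz⟩ := hE.surj y
    refine ⟨i, PrimeSpectrum.comap (π i : T i →+* E i) z, ?_⟩
    rw [← hy, ← hz, ← PrimeSpectrum.comap_comp_apply, ← PrimeSpectrum.comap_comp_apply]
    exact congrArg (fun φ => PrimeSpectrum.comap φ z) (RingHom.ext fun r => (π i).commutes r)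
  haveI := hE.finite
  haveI := Fintype.ofFinite σ
  haveI := IsCoverFam.faithfullyFlat hT
  haveI := IsCoverFam.faithfullyFlat hE
  obtain ⟨A, _, _, hA, ⟨φA⟩⟩ := GrothLib.MultLocal.exists_lift_of_frames
    (R := R) (R₀ := R ⧸ J) Ideal.Quotient.mk_surjective hnil π hπ hπnil hg
  choose gT hgT using hA
  -- the lifted group
  have hcharts := hasChartsFpqc_of_frames T hT hMfg hgT
  obtain ⟨e₁⟩ := bcGrp_specGrp (R := R) (R ⧸ J) A
  obtain ⟨e₂⟩ := grpIso_of_bialgEquiv φA
  let Φ : Grp.mk (Red.bc q (specGrp (R := R) A)) ≅ Grp.mk H₀ := e₁ ≪≫ e₂.symm ≪≫ e₀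
  exact ⟨specGrp (R := R) A, inferInstance, hcharts, ⟨Φ⟩⟩

open CategoryTheory.Limits in
/-- A lift of a finite smooth group is finite and smooth. -/
theorem finite_smooth_of_lift {S S₀ : Scheme.{u}} (i : S₀ ⟶ S) [IsClosedImmersion i] [Surjective i] {H : Over S}
    [GrpObj H] (hH : HasChartsFpqc fgM H) (h₁ : IsFinite (Red.bc i H).hom) (h₂ : Smooth (Red.bc i H).hom) :
    IsFinite H.hom ∧ Smooth H.hom := by
  haveI : Flat H.hom := GrothLib.DiagGrp.flat_of_charts hH
  haveI : LocallyOfFinitePresentation H.hom := GrothLib.DiagGrp.lfp_of_isMultTypeFT hH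
  haveI : IsAffineHom H.hom := GrothLib.EssFree.isAffineHom_of_charts hH
  haveI : Smooth (pullback.snd H.hom i) := h₂
  refine ⟨?_, GrothLib.AlgSp.smooth_of_flat_of_thickening (IsPullback.of_hasPullback H.hom i)⟩
  haveI : IsFinite (pullback.snd H.hom i) := h₁
  haveI : Surjective (pullback.fst H.hom i) := MorphismProperty.pullback_fst _ _ ‹_›
  haveI : UniversallyClosed (pullback.fst H.hom i ≫ H.hom) := by
    rw [pullback.condition]
    infer_instance
  haveI : UniversallyClosed H.hom := UniversallyClosed.of_comp_surjective (pullback.fst H.hom i) H.hom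
  haveI : IsProper H.hom := { }
  exact IsFinite.iff_isProper_and_isAffineHom.mpr ⟨inferInstance, inferInstance⟩

end GrothLib.MultHopf14
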